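import Mathlib.RingTheory.LocalRing.Module
import Mathlib.RingTheory.Flat.Tensor
import Mathlib.RingTheory.Flat.Stability
import Mathlib.RingTheory.Filtration
import Mathlib.RingTheory.TensorProduct.Finite
import Mathlib.LinearAlgebra.TensorProduct.Quotient

/-!
# The local criterion of flatness

* `flat_of_forall_pow`: `M` finite over a Noetherian `S`, `IS ≤ jac S`, and `· ⊗ M` preserves
  injections between modules killed by powers of `I` implies `M` flat over `R`.
* `inj_of_pow`: `I ⊗ M → M` injective and `M/IM` flat over `R/I` implies `· ⊗ M` preserves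
  injections whose cokernel is killed by a power of `I`.
* `flat_criterion`, `flat_criterion_nilpotent`.
-/

set_option autoImplicit false
set_option linter.style.haveILetI false

universe u

open TensorProduct Function

namespace Groth.Agent.LocFlat

variable {R : Type u} [CommRing R]

/-- The free presentation `(Q →₀ R) → Q`. -/
noncomputable abbrev pres (R : Type u) [CommRing R] (Q : Type u) [AddCommGroup Q] [Module R Q] :
    (Q →₀ R) →ₗ[R] Q := Finsupp.linearCombination R id

/-- The relations of the free presentation. -/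
noncomputable abbrev relSub (R : Type u) [CommRing R] (Q : Type u) [AddCommGroup Q] [Module R Q] :
    Submodule R (Q →₀ R) := LinearMap.ker (pres R Q)

lemma pres_surjective (Q : Type u) [AddCommGroup Q] [Module R Q] : Surjective (pres R Q) :=
  fun x => ⟨Finsupp.single x 1, by simp⟩

lemma lTensor_injective_of_flat_coker_aux {A B C K G Q : Type u} [AddCommGroup A] [Module R A]
    [AddCommGroup B] [Module R B] [AddCommGroup C] [Module R C] [Module.Flat R C]
    [AddCommGroup K] [Module R K] [AddCommGroup G] [Module R G] [Module.Flat R G]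
    [AddCommGroup Q] [Module R Q]
    (f : A →ₗ[R] B) (g : B →ₗ[R] C) (hfg : Exact f g) (hg : Surjective g) (hf : Injective f)
    (a : K →ₗ[R] G) (b : G →ₗ[R] Q) (hab : Exact a b) (hb : Surjective b) (ha : Injective a) :
    Injective (f.lTensor Q) :=
  lTensor_injective_of_exact_of_exact_of_rTensor_injective hab hb hfg hg
    (Module.Flat.rTensor_preserves_injective_linearMap a ha)
    (Module.Flat.lTensor_preserves_injective_linearMap f hf)

/-- A short exact sequence with flat cokernel stays injective after tensoring with any module. -/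
lemma lTensor_injective_of_flat_coker {A B C : Type u} [AddCommGroup A] [Module R A]
    [AddCommGroup B] [Module R B] [AddCommGroup C] [Module R C] [Module.Flat R C]
    (f : A →ₗ[R] B) (g : B →ₗ[R] C) (hfg : Exact f g) (hg : Surjective g) (hf : Injective f)
    (Q : Type u) [AddCommGroup Q] [Module R Q] : Injective (f.lTensor Q) :=
  lTensor_injective_of_flat_coker_aux f g hfg hg hf _ (pres R Q)
    (LinearMap.exact_subtype_ker_map (pres R Q)) (pres_surjective Q)
    (Submodule.injective_subtype _)

/-- `f ⊗ Q` injective is stable under extensions of `Q` (flat target). -/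
lemma lTensor_injective_ext {A B : Type u} [AddCommGroup A] [Module R A]
    [AddCommGroup B] [Module R B] [Module.Flat R B] (f : A →ₗ[R] B)
    {Q₁ Q Q₂ : Type u} [AddCommGroup Q₁] [Module R Q₁] [AddCommGroup Q] [Module R Q]
    [AddCommGroup Q₂] [Module R Q₂] (i : Q₁ →ₗ[R] Q) (p : Q →ₗ[R] Q₂)
    (hi : Injective i) (hip : Exact i p) (hp : Surjective p)
    (h₁ : Injective (f.lTensor Q₁)) (h₂ : Injective (f.lTensor Q₂)) :
    Injective (f.lTensor Q) := by
  rw [injective_iff_map_eq_zero]
  intro x hx
  have hx2 : p.rTensor A x = 0 := by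
    apply h₂
    rw [map_zero, ← LinearMap.comp_apply, LinearMap.lTensor_comp_rTensor,
      ← LinearMap.rTensor_comp_lTensor, LinearMap.comp_apply, hx, map_zero]
  obtain ⟨y, rfl⟩ := (rTensor_exact A hip hp x).mp hx2
  have hy : f.lTensor Q₁ y = 0 := by
    apply Module.Flat.rTensor_preserves_injective_linearMap (M := B) i hi
    rw [map_zero, ← LinearMap.comp_apply, LinearMap.rTensor_comp_lTensor,
      ← LinearMap.lTensor_comp_rTensor, LinearMap.comp_apply, hx]
  rw [h₁ (hy.trans (map_zero _).symm), map_zero]

section Ideal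

variable (I : Ideal R)

/-- Induction on the exponent: from modules killed by `I` to modules killed by powers of `I`. -/
lemma lTensor_injective_of_pow {A B : Type u} [AddCommGroup A] [Module R A]
    [AddCommGroup B] [Module R B] [Module.Flat R B] (f : A →ₗ[R] B)
    (hbase : ∀ (Q : Type u) [AddCommGroup Q] [Module R Q],
      I • (⊤ : Submodule R Q) = ⊥ → Injective (f.lTensor Q))
    (n : ℕ) : ∀ (Q : Type u) [AddCommGroup Q] [Module R Q],
      I ^ n • (⊤ : Submodule R Q) = ⊥ → Injective (f.lTensor Q) := by
  induction n with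
  | zero =>
    intro Q _ _ h
    refine hbase Q ?_
    rw [eq_bot_iff] at h ⊢
    refine le_trans ?_ h
    simp
  | succ n ih =>
    intro Q _ _ h
    refine lTensor_injective_ext f (I • (⊤ : Submodule R Q)).subtype (I • ⊤ : Submodule R Q).mkQ
      Subtype.val_injective (LinearMap.exact_subtype_mkQ _) (Submodule.mkQ_surjective _) ?_ ?_
    · refine ih _ ?_
      apply Submodule.map_injective_of_injective (f := (I • (⊤ : Submodule R Q)).subtype)
        Subtype.val_injective
      rw [Submodule.map_smul'', Submodule.map_bot, Submodule.map_top, Submodule.range_subtype,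
        ← Submodule.mul_smul, ← pow_succ, h]
    · refine hbase _ ?_
      rw [← Submodule.range_mkQ, ← Submodule.map_top, ← Submodule.map_smul'', Submodule.mkQ_map_self]

end Ideal

section Swap

variable (M : Type u) [AddCommGroup M] [Module R M]

/-- If the presentation of `M` stays injective on the cokernel of `a`, then `a ⊗ M` is injective. -/
lemma rTensor_injective_of_pres {A B Q : Type u} [AddCommGroup A] [Module R A]
    [AddCommGroup B] [Module R B] [AddCommGroup Q] [Module R Q]
    (a : A →ₗ[R] B) (b : B →ₗ[R] Q) (ha : Injective a) (hab : Exact a b) (hb : Surjective b)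
    (h : Injective ((relSub R M).subtype.lTensor Q)) :
    Injective (a.rTensor M) := by
  rw [← LinearMap.lTensor_inj_iff_rTensor_inj]
  exact lTensor_injective_of_exact_of_exact_of_rTensor_injective
    (LinearMap.exact_subtype_ker_map _) (pres_surjective M) hab hb
    ((LinearMap.lTensor_inj_iff_rTensor_inj _ _).mp h)
    (Module.Flat.lTensor_preserves_injective_linearMap a ha)

lemma pres_quot (I : Ideal R) (h1 : Injective (LinearMap.rTensor M I.subtype)) :
    Injective ((relSub R M).subtype.lTensor (R ⧸ I)) :=
  lTensor_injective_of_exact_of_exact_of_rTensor_injective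
    (LinearMap.exact_subtype_mkQ I) (Submodule.mkQ_surjective I)
    (LinearMap.exact_subtype_ker_map _) (pres_surjective M) h1
    (Module.Flat.lTensor_preserves_injective_linearMap _ Subtype.val_injective)

lemma pres_of_killed (I : Ideal R) (h1 : Injective (LinearMap.rTensor M I.subtype))
    (h2 : Module.Flat (R ⧸ I) ((R ⧸ I) ⊗[R] M))
    (Q : Type u) [AddCommGroup Q] [Module R Q] (hQ : I • (⊤ : Submodule R Q) = ⊥) :
    Injective ((relSub R M).subtype.lTensor Q) := by
  have hQ' : Module.IsTorsionBySet R Q (I : Set R) := by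
    intro x r
    rw [← Submodule.mem_bot R, ← hQ]
    exact Submodule.smul_mem_smul r.2 trivial
  letI := hQ'.module
  haveI : IsScalarTower R (R ⧸ I) Q := hQ'.isScalarTower
  set f := (relSub R M).subtype
  have hfg : Exact (f.baseChange (R ⧸ I)) ((pres R M).baseChange (R ⧸ I)) :=
    lTensor_exact (R ⧸ I) (LinearMap.exact_subtype_ker_map _) (pres_surjective M)
  have hinj := lTensor_injective_of_flat_coker (f.baseChange (R ⧸ I))
    ((pres R M).baseChange (R ⧸ I)) hfg
    (LinearMap.lTensor_surjective _ (pres_surjective M)) (pres_quot M I h1) Q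
  have hcomm : ∀ z, f.lTensor Q
      (AlgebraTensorModule.cancelBaseChange R (R ⧸ I) (R ⧸ I) Q (relSub R M) z) =
      AlgebraTensorModule.cancelBaseChange R (R ⧸ I) (R ⧸ I) Q (M →₀ R)
        ((f.baseChange (R ⧸ I)).lTensor Q z) := by
    intro z
    induction z with
    | zero => simp
    | tmul q y =>
      induction y with
      | zero => simp
      | tmul r l => simp
      | add y y' hy hy' => simp only [tmul_add, map_add, hy, hy']
    | add z z' hz hz' => simp only [map_add, hz, hz']
  intro x y hxy
  obtain ⟨x, rfl⟩ := (AlgebraTensorModule.cancelBaseChange R (R ⧸ I) (R ⧸ I) Q _).surjective x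
  obtain ⟨y, rfl⟩ := (AlgebraTensorModule.cancelBaseChange R (R ⧸ I) (R ⧸ I) Q _).surjective y
  rw [hcomm, hcomm] at hxy
  rw [hinj ((AlgebraTensorModule.cancelBaseChange R (R ⧸ I) (R ⧸ I) Q _).injective hxy)]

/-- Injections with cokernel killed by a power of `I` stay injective. -/
lemma inj_of_pow (I : Ideal R) (h1 : Injective (LinearMap.rTensor M I.subtype))
    (h2 : Module.Flat (R ⧸ I) ((R ⧸ I) ⊗[R] M)) (n : ℕ)
    (A B : Type u) [AddCommGroup A] [Module R A] [AddCommGroup B] [Module R B]
    (a : A →ₗ[R] B) (ha : Injective a) (hB : I ^ n • (⊤ : Submodule R B) = ⊥) :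
    Injective (a.rTensor M) := by
  refine rTensor_injective_of_pres M a (LinearMap.range a).mkQ ha a.exact_map_mkQ_range
    (Submodule.mkQ_surjective _) ?_
  have hpow := lTensor_injective_of_pow I (A := relSub R M) (relSub R M).subtype
    (by intro Q _ _ hQ; exact pres_of_killed M I h1 h2 Q hQ) n (B ⧸ LinearMap.range a)
  apply hpow
  rw [← Submodule.range_mkQ (LinearMap.range a), ← Submodule.map_top (LinearMap.range a).mkQ,
    ← Submodule.map_smul'', hB, Submodule.map_bot]

/-- Flatness modulo a nilpotent ideal. -/
theorem flat_criterion_nilpotent (I : Ideal R) (hI : IsNilpotent I)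
    (h1 : Injective (LinearMap.rTensor M I.subtype))
    (h2 : Module.Flat (R ⧸ I) ((R ⧸ I) ⊗[R] M)) : Module.Flat R M := by
  obtain ⟨n, hn⟩ := hI
  rw [Module.Flat.iff_rTensor_injective']
  intro J
  refine inj_of_pow M I h1 h2 n _ _ J.subtype Subtype.val_injective ?_
  rw [hn]; simp

end Swap

section Noetherian

variable {S : Type u} [CommRing S] [Algebra R S] [IsNoetherianRing S]

omit [IsNoetherianRing S] in
/-- `X ⊗ Q` is finite over `S` for `X` finite over `S` and `Q` finite over `R`. -/
lemma finite_tensor (M : Type u) [AddCommGroup M] [Module R M] [Module S M] [IsScalarTower R S M]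
    [Module.Finite S M] (Q : Type u) [AddCommGroup Q] [Module R Q] [Module.Finite R Q] :
    Module.Finite S (M ⊗[R] Q) := by
  obtain ⟨n, q, hq⟩ := Module.Finite.exists_fin' R Q
  refine Module.Finite.of_surjective
    (∑ i, ((AlgebraTensorModule.mk R S M Q).flip (q (Pi.single i 1))).comp (LinearMap.proj i) :
      (Fin n → M) →ₗ[S] M ⊗[R] Q) fun x => ?_
  induction x with
  | zero => exact ⟨0, by simp⟩
  | tmul m y =>
    obtain ⟨c, rfl⟩ := hq y
    refine ⟨fun i => c i • m, ?_⟩
    have hc : c = ∑ i, c i • Pi.single i (1 : R) := by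
      ext j; simp [Finset.sum_apply, Pi.single_apply]
    conv_rhs => rw [hc]
    simp [LinearMap.sum_apply, tmul_sum, smul_tmul', tmul_smul]
  | add x y hx hy =>
    obtain ⟨a, rfl⟩ := hx
    obtain ⟨b, rfl⟩ := hy
    exact ⟨a + b, map_add _ _ _⟩

/-- Krull intersection for `M ⊗ Q`. -/
lemma eq_zero_of_forall_pow {X : Type u} [AddCommGroup X] [Module R X] [Module S X]
    [IsScalarTower R S X] [Module.Finite S X] (I : Ideal R)
    (hI : I.map (algebraMap R S) ≤ Ideal.jacobson ⊥) (x : X)
    (hx : ∀ k : ℕ, x ∈ (I ^ k • ⊤ : Submodule R X)) : x = 0 := by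
  rw [← Submodule.mem_bot S, ← Ideal.iInf_pow_smul_eq_bot_of_le_jacobson (M := X) _ hI,
    Submodule.mem_iInf]
  intro k
  rw [← Ideal.map_pow]
  refine Submodule.smul_induction_on (hx k) (fun r hr y _ => ?_) (fun y z hy hz => add_mem hy hz)
  rw [← algebraMap_smul S r y]
  exact Submodule.smul_mem_smul (Ideal.mem_map_of_mem _ hr) trivial

/-- Final step of the local criterion. -/
theorem flat_of_forall_pow [IsNoetherianRing R] (M : Type u) [AddCommGroup M] [Module R M]
    [Module S M] [IsScalarTower R S M] [Module.Finite S M] (I : Ideal R)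
    (hI : I.map (algebraMap R S) ≤ Ideal.jacobson ⊥)
    (h : ∀ (n : ℕ) (A B : Type u) [AddCommGroup A] [Module R A] [AddCommGroup B] [Module R B]
      (a : A →ₗ[R] B), Injective a → I ^ n • (⊤ : Submodule R B) = ⊥ → Injective (a.rTensor M)) :
    Module.Flat R M := by
  rw [Module.Flat.iff_lTensor_injective]
  intro J _
  rw [injective_iff_map_eq_zero]
  intro x hx
  haveI : Module.Finite S (M ⊗[R] J) := finite_tensor M J
  refine eq_zero_of_forall_pow (S := S) I hI x fun k => ?_
  obtain ⟨n₀, hn₀⟩ := I.exists_pow_inf_eq_pow_smul (M := R) J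
  set K : Submodule R J := Submodule.comap J.subtype (I ^ (n₀ + k) • ⊤) with hK
  have hKk : K ≤ I ^ k • ⊤ := by
    intro j hj
    have : (j : R) ∈ I ^ k • (I ^ n₀ • ⊤ ⊓ J) := by
      have h2 := hn₀ (n₀ + k) (Nat.le_add_right _ _)
      rw [Nat.add_sub_cancel_left] at h2
      rw [← h2]
      exact ⟨hj, j.2⟩
    have h3 : (j : R) ∈ (I ^ k • ⊤ : Submodule R J).map J.subtype := by
      rw [Submodule.map_smul'', Submodule.map_top, Submodule.range_subtype]
      exact Submodule.smul_mono le_rfl inf_le_right this
    obtain ⟨j', hj', hjj⟩ := h3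
    rwa [← Subtype.ext (a1 := j') (a2 := j) hjj]
  let a : (J ⧸ K) →ₗ[R] R ⧸ (I ^ (n₀ + k) • ⊤ : Submodule R R) :=
    K.mapQ _ J.subtype le_rfl
  have ha : Injective a := by
    rw [← LinearMap.ker_eq_bot, Submodule.ker_mapQ, hK, Submodule.mkQ_map_self]
  have hB : I ^ (n₀ + k) • (⊤ : Submodule R (R ⧸ (I ^ (n₀ + k) • ⊤ : Submodule R R))) = ⊥ := by
    rw [← Submodule.range_mkQ, ← Submodule.map_top, ← Submodule.map_smul'', Submodule.mkQ_map_self]
  have hinj : Injective (a.lTensor M) :=
    (LinearMap.lTensor_inj_iff_rTensor_inj _ _).mpr (h _ _ _ a ha hB)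
  have h0 : K.mkQ.lTensor M x = 0 := by
    apply hinj
    rw [map_zero, ← LinearMap.comp_apply, ← LinearMap.lTensor_comp,
      show a ∘ₗ K.mkQ = Submodule.mkQ _ ∘ₗ J.subtype from rfl, LinearMap.lTensor_comp,
      LinearMap.comp_apply, hx, map_zero]
  obtain ⟨y, rfl⟩ := (lTensor_exact M (LinearMap.exact_subtype_mkQ K)
    (Submodule.mkQ_surjective K) x).mp h0
  clear hx h0
  induction y with
  | zero => simp
  | tmul m j =>
    rw [LinearMap.lTensor_tmul, Submodule.subtype_apply]
    refine Submodule.smul_induction_on (p := fun z => m ⊗ₜ[R] z ∈ (I ^ k • ⊤ : Submodule R (M ⊗[R] J)))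
      (hKk j.2) (fun r hr z _ => ?_) (fun z w hz hw => ?_)
    · rw [tmul_smul]
      exact Submodule.smul_mem_smul hr trivial
    · rw [tmul_add]
      exact add_mem hz hw
  | add y z hy hz => rw [map_add]; exact add_mem hy hz

/-- The local criterion of flatness. -/
theorem flat_criterion [IsNoetherianRing R] (M : Type u) [AddCommGroup M] [Module R M]
    [Module S M] [IsScalarTower R S M] [Module.Finite S M] (I : Ideal R)
    (hI : I.map (algebraMap R S) ≤ Ideal.jacobson ⊥)
    (h1 : Injective (LinearMap.rTensor M I.subtype))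
    (h2 : Module.Flat (R ⧸ I) ((R ⧸ I) ⊗[R] M)) : Module.Flat R M :=
  flat_of_forall_pow (S := S) M I hI fun n A B _ _ _ _ a ha hB => inj_of_pow M I h1 h2 n A B a ha hB

omit [IsNoetherianRing S] in
lemma map_le_jacobson [IsLocalRing R] [IsLocalRing S] [IsLocalHom (algebraMap R S)]
    (I : Ideal R) (hI : I ≠ ⊤) : I.map (algebraMap R S) ≤ Ideal.jacobson ⊥ := by
  rw [IsLocalRing.jacobson_eq_maximalIdeal ⊥ bot_ne_top]
  exact (Ideal.map_mono (IsLocalRing.le_maximalIdeal hI)).trans
    (((IsLocalRing.local_hom_TFAE (algebraMap R S)).out 0 2).mp ‹_›)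

end Noetherian

section Injective

variable [IsLocalRing R] {S : Type u} [CommRing S] [Algebra R S] [IsLocalRing S]
  [IsNoetherianRing S] [IsLocalHom (algebraMap R S)]

/-- A map to a flat module which is injective on the closed fibre is injective with flat cokernel. -/
theorem injective_and_flat_coker {M N : Type u} [AddCommGroup M] [Module R M] [Module.Flat R M]
    [AddCommGroup N] [Module R N] [Module S N] [IsScalarTower R S N] [Module.Finite S N]
    (u : N →ₗ[R] M) (h : Injective (u.lTensor (IsLocalRing.ResidueField R))) :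
    Injective u ∧ Module.Flat R (M ⧸ LinearMap.range u) := by
  set m := IsLocalRing.maximalIdeal R
  have hbase : ∀ (Q : Type u) [AddCommGroup Q] [Module R Q],
      m • (⊤ : Submodule R Q) = ⊥ → Injective (u.lTensor Q) := by
    intro Q _ _ hQ
    have hQ' : Module.IsTorsionBySet R Q (m : Set R) := by
      intro x r
      rw [← Submodule.mem_bot R, ← hQ]
      exact Submodule.smul_mem_smul r.2 trivial
    letI := hQ'.module
    haveI : IsScalarTower R (R ⧸ m) Q := hQ'.isScalarTower
    letI : Module (IsLocalRing.ResidueField R) Q := hQ'.module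
    haveI : IsScalarTower R (IsLocalRing.ResidueField R) Q := hQ'.isScalarTower
    let k := IsLocalRing.ResidueField R
    have hcomm : ∀ z, u.lTensor Q (AlgebraTensorModule.cancelBaseChange R k k Q N z) =
        AlgebraTensorModule.cancelBaseChange R k k Q M ((u.baseChange k).lTensor Q z) := by
      intro z
      induction z with
      | zero => simp
      | tmul q y =>
        induction y with
        | zero => simp
        | tmul r l => simp
        | add y y' hy hy' => simp only [tmul_add, map_add, hy, hy']
      | add z z' hz hz' => simp only [map_add, hz, hz']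
    have hinj : Injective ((u.baseChange k).lTensor Q) :=
      Module.Flat.lTensor_preserves_injective_linearMap _ h
    intro x y hxy
    obtain ⟨x, rfl⟩ := (AlgebraTensorModule.cancelBaseChange R k k Q N).surjective x
    obtain ⟨y, rfl⟩ := (AlgebraTensorModule.cancelBaseChange R k k Q N).surjective y
    rw [hcomm, hcomm] at hxy
    rw [hinj ((AlgebraTensorModule.cancelBaseChange R k k Q M).injective hxy)]
  have key : ∀ J : Ideal R, Injective (u.lTensor (R ⧸ J)) := by
    intro J
    rw [injective_iff_map_eq_zero]
    intro x hx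
    haveI : Module.Finite S (N ⊗[R] (R ⧸ J)) := finite_tensor N _
    have : TensorProduct.comm R _ _ x = 0 := by
      refine eq_zero_of_forall_pow (S := S) m (map_le_jacobson m (IsLocalRing.maximalIdeal.isMaximal R).ne_top) _ fun k => ?_
      set K : Submodule R (R ⧸ J) := m ^ k • ⊤
      have hkill : m ^ k • (⊤ : Submodule R ((R ⧸ J) ⧸ K)) = ⊥ := by
        rw [← Submodule.range_mkQ, ← Submodule.map_top, ← Submodule.map_smul'', Submodule.mkQ_map_self]
      have h0 : K.mkQ.rTensor N x = 0 := by
        apply lTensor_injective_of_pow m u hbase k _ hkill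
        rw [map_zero, ← LinearMap.comp_apply, LinearMap.lTensor_comp_rTensor,
          ← LinearMap.rTensor_comp_lTensor, LinearMap.comp_apply, hx, map_zero]
      obtain ⟨y, rfl⟩ := (rTensor_exact N (LinearMap.exact_subtype_mkQ K)
        (Submodule.mkQ_surjective K) x).mp h0
      clear hx h0
      induction y with
      | zero => simp
      | tmul j n =>
        rw [LinearMap.rTensor_tmul, Submodule.subtype_apply, TensorProduct.comm_tmul]
        refine Submodule.smul_induction_on
          (p := fun z => n ⊗ₜ[R] z ∈ (m ^ k • ⊤ : Submodule R (N ⊗[R] (R ⧸ J))))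
          j.2 (fun r hr z _ => ?_) (fun z w hz hw => ?_)
        · rw [tmul_smul]
          exact Submodule.smul_mem_smul hr trivial
        · rw [tmul_add]
          exact add_mem hz hw
      | add y z hy hz => rw [map_add, map_add]; exact add_mem hy hz
    simpa using congrArg (TensorProduct.comm R _ _).symm this
  have hu : Injective u := by
    rw [injective_iff_map_eq_zero]
    intro x hx
    have := key ⊥
    have h0 : (Submodule.Quotient.mk 1 : R ⧸ (⊥ : Ideal R)) ⊗ₜ[R] x = 0 := by
      apply this
      simp [hx]
    have h1 := congrArg ((TensorProduct.lid R N).toLinearMap ∘ₗ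
      ((Submodule.quotEquivOfEqBot (⊥ : Ideal R) rfl).toLinearMap.rTensor N)) h0
    simp only [LinearMap.comp_apply, LinearMap.rTensor_tmul, LinearEquiv.coe_coe,
      TensorProduct.lid_tmul, map_zero] at h1
    rwa [Submodule.quotEquivOfEqBot_apply_mk, one_smul] at h1
  refine ⟨hu, ?_⟩
  rw [Module.Flat.iff_lTensor_injective']
  intro J
  exact lTensor_injective_of_exact_of_exact_of_rTensor_injective
    u.exact_map_mkQ_range (Submodule.mkQ_surjective _)
    (LinearMap.exact_subtype_mkQ J) (Submodule.mkQ_surjective J)
    ((LinearMap.lTensor_inj_iff_rTensor_inj _ _).mp (key J))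
    (Module.Flat.lTensor_preserves_injective_linearMap _ Subtype.val_injective)

end Injective

end Groth.Agent.LocFlat
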