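import Groth.Agent.LocFlat.Basic
import Mathlib.RingTheory.Flat.FaithfullyFlat.Basic
import Mathlib.RingTheory.Flat.FaithfullyFlat.Algebra

set_option autoImplicit false
set_option linter.style.haveILetI false

universe u

open TensorProduct Function

namespace Groth.Agent.LocFlat

variable {R : Type u} [CommRing R] {S : Type u} [CommRing S] [Algebra R S]

/-- `IS ⊗_S M → M` is injective when `M` is flat over `R`. -/
lemma rTensor_map_injective (I : Ideal R) (M : Type u) [AddCommGroup M] [Module R M] [Module S M]
    [IsScalarTower R S M] [Module.Flat R M] :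
    Injective (LinearMap.rTensor M (Submodule.subtype (I.map (algebraMap R S)))) := by
  let ψ : I →ₗ[R] (I.map (algebraMap R S)) :=
    { toFun := fun i => ⟨algebraMap R S i, Ideal.mem_map_of_mem _ i.2⟩
      map_add' := fun a b => by ext; simp
      map_smul' := fun r a => by ext; simp [Algebra.smul_def] }
  let φ : (I ⊗[R] M) →ₗ[R] (I.map (algebraMap R S)) ⊗[S] M :=
    TensorProduct.lift (((TensorProduct.mk S (I.map (algebraMap R S)) M).restrictScalars₁₂ R R).comp ψ)
  have hφt : ∀ i m, φ (i ⊗ₜ m) = ψ i ⊗ₜ[S] m := fun i m => rfl
  have hφ : Surjective φ := by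
    intro x
    induction x with
    | zero => exact ⟨0, map_zero _⟩
    | tmul j m =>
      obtain ⟨j, hj⟩ := j
      revert hj m
      intro m hj
      induction hj using Submodule.span_induction generalizing m with
      | mem z hz =>
        obtain ⟨i, hi, rfl⟩ := hz
        exact ⟨(⟨i, hi⟩ : I) ⊗ₜ m, rfl⟩
      | zero => exact ⟨0, by rw [map_zero]; exact (zero_tmul _ m).symm⟩
      | add y z hy hz ihy ihz =>
        obtain ⟨a, ha⟩ := ihy m
        obtain ⟨b, hb⟩ := ihz m
        exact ⟨a + b, by rw [map_add, ha, hb, ← add_tmul]; rfl⟩
      | smul s z hz ih =>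
        obtain ⟨a, ha⟩ := ih (s • m)
        exact ⟨a, by rw [ha, tmul_smul, smul_tmul']; rfl⟩
    | add x y hx hy =>
      obtain ⟨a, ha⟩ := hx
      obtain ⟨b, hb⟩ := hy
      exact ⟨a + b, by rw [map_add, ha, hb]⟩
  have hcomp : ∀ z, TensorProduct.lid S M (LinearMap.rTensor M (Submodule.subtype _) (φ z)) =
      TensorProduct.lid R M (LinearMap.rTensor M (Submodule.subtype I) z) := by
    intro z
    induction z with
    | zero => simp
    | tmul i m => simp [hφt, ψ]
    | add x y hx hy => simp only [map_add, hx, hy]
  intro x y hxy
  obtain ⟨x, rfl⟩ := hφ x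
  obtain ⟨y, rfl⟩ := hφ y
  have h := congrArg (TensorProduct.lid S M) hxy
  rw [hcomp, hcomp] at h
  rw [Module.Flat.rTensor_preserves_injective_linearMap (M := M) (Submodule.subtype I)
    (Submodule.injective_subtype I) ((TensorProduct.lid R M).injective h)]

/-- Flatness descends along a faithfully flat module over the middle ring. -/
lemma flat_of_faithfullyFlat_tower (M : Type u) [AddCommGroup M] [Module R M] [Module S M]
    [IsScalarTower R S M] [Module.Flat R M] [Module.FaithfullyFlat S M] : Module.Flat R S := by
  rw [Module.Flat.iff_lTensor_injective']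
  intro J
  have hinj : Injective (LinearMap.lTensor M (AlgebraTensorModule.lTensor S S J.subtype)) := by
    have hcomm : ∀ z, AlgebraTensorModule.cancelBaseChange R S S M R
        (LinearMap.lTensor M (AlgebraTensorModule.lTensor S S J.subtype) z) =
        LinearMap.lTensor M J.subtype (AlgebraTensorModule.cancelBaseChange R S S M J z) := by
      intro z
      induction z with
      | zero => simp
      | tmul q y =>
        induction y with
        | zero => simp
        | tmul r l => simp
        | add y y' hy hy' => simp only [tmul_add, map_add, hy, hy']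
      | add z z' hz hz' => simp only [map_add, hz, hz']
    intro x y hxy
    have h := congrArg (AlgebraTensorModule.cancelBaseChange R S S M R) hxy
    rw [hcomm, hcomm] at h
    exact (AlgebraTensorModule.cancelBaseChange R S S M J).injective
      (Module.Flat.lTensor_preserves_injective_linearMap J.subtype (Submodule.injective_subtype J) h)
  exact (Module.FaithfullyFlat.lTensor_injective_iff_injective S M _).mp hinj

/-- A nontrivial finite flat module over a local ring, for a local map to the scalar ring,
is faithfully flat. -/
lemma faithfullyFlat_of_local {S' : Type u} [CommRing S'] [Algebra S S'] [IsLocalRing S]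
    [IsLocalRing S'] [IsLocalHom (algebraMap S S')] (M : Type u) [AddCommGroup M] [Module S M]
    [Module S' M] [IsScalarTower S S' M] [Module.Finite S' M] [Nontrivial M] [Module.Flat S M] :
    Module.FaithfullyFlat S M where
  submodule_ne_top := by
    intro m hm htop
    rw [IsLocalRing.eq_maximalIdeal hm] at htop
    have hle : (⊤ : Submodule S' M) ≤ IsLocalRing.maximalIdeal S' • ⊤ := by
      intro x _
      have hx : x ∈ IsLocalRing.maximalIdeal S • (⊤ : Submodule S M) := htop.symm ▸ Submodule.mem_top
      refine Submodule.smul_induction_on hx (fun r hr y _ => ?_) (fun y z hy hz => add_mem hy hz)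
      rw [← algebraMap_smul S' r y]
      exact Submodule.smul_mem_smul (map_nonunit (algebraMap S S') r hr) trivial
    have := Submodule.eq_bot_of_le_smul_of_le_jacobson_bot (IsLocalRing.maximalIdeal S') ⊤
      Module.Finite.fg_top hle (by rw [IsLocalRing.jacobson_eq_maximalIdeal ⊥ bot_ne_top])
    exact bot_ne_top this.symm

/-- `· ⊗ M` preserves injections of modules killed by `I` when `M/IM` is flat over `R/I`. -/
lemma rTensor_injective_of_flat_quot (M : Type u) [AddCommGroup M] [Module R M] (I : Ideal R)
    (h2 : Module.Flat (R ⧸ I) ((R ⧸ I) ⊗[R] M))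
    (A B : Type u) [AddCommGroup A] [Module R A] [AddCommGroup B] [Module R B]
    (a : A →ₗ[R] B) (ha : Injective a) (hB : I • (⊤ : Submodule R B) = ⊥) :
    Injective (a.rTensor M) := by
  have hB' : Module.IsTorsionBySet R B (I : Set R) := by
    intro x r
    rw [← Submodule.mem_bot R, ← hB]
    exact Submodule.smul_mem_smul r.2 trivial
  have hA' : Module.IsTorsionBySet R A (I : Set R) := by
    intro x r
    apply ha
    rw [map_smul, map_zero]
    exact @hB' (a x) r
  letI := hB'.module
  letI := hA'.module
  have : IsScalarTower R (R ⧸ I) B := hB'.isScalarTower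
  have : IsScalarTower R (R ⧸ I) A := hA'.isScalarTower
  let a' : A →ₗ[R ⧸ I] B :=
    { toFun := a
      map_add' := a.map_add
      map_smul' := fun r x => by
        obtain ⟨r, rfl⟩ := Ideal.Quotient.mk_surjective r
        exact a.map_smul r x }
  have hcomm : ∀ z, a.rTensor M
      (AlgebraTensorModule.cancelBaseChange R (R ⧸ I) (R ⧸ I) A M z) =
      AlgebraTensorModule.cancelBaseChange R (R ⧸ I) (R ⧸ I) B M
        (a'.rTensor ((R ⧸ I) ⊗[R] M) z) := by
    intro z
    induction z with
    | zero => simp
    | tmul q y =>
      induction y with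
      | zero => simp
      | tmul r l =>
        obtain ⟨r, rfl⟩ := Ideal.Quotient.mk_surjective r
        simp [a']
      | add y y' hy hy' => simp only [tmul_add, map_add, hy, hy']
    | add z z' hz hz' => simp only [map_add, hz, hz']
  intro x y hxy
  obtain ⟨x, rfl⟩ := (AlgebraTensorModule.cancelBaseChange R (R ⧸ I) (R ⧸ I) A M).surjective x
  obtain ⟨y, rfl⟩ := (AlgebraTensorModule.cancelBaseChange R (R ⧸ I) (R ⧸ I) A M).surjective y
  rw [hcomm, hcomm] at hxy
  rw [Module.Flat.rTensor_preserves_injective_linearMap (M := (R ⧸ I) ⊗[R] M) a' ha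
    ((AlgebraTensorModule.cancelBaseChange R (R ⧸ I) (R ⧸ I) B M).injective hxy)]

end Groth.Agent.LocFlat
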