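import Groth.Agent.LocFlat.Basic
import Mathlib.RingTheory.Artinian.Ring
import Mathlib.RingTheory.Idempotents
import Mathlib.RingTheory.Ideal.Quotient.Operations
import Mathlib.LinearAlgebra.DFinsupp
import Mathlib.Algebra.Module.Projective
import Mathlib.LinearAlgebra.Basis.VectorSpace

/-!
# Projective covers over commutative Artinian rings
-/

set_option autoImplicit false
set_option linter.style.haveILetI false

universe u

open TensorProduct Function

namespace Groth.Agent.LocFlat.Artinian

variable {R : Type u} [CommRing R]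

lemma exists_idempotent [IsArtinianRing R] (m : MaximalSpectrum R) :
    ∃ e : R, IsIdempotentElem e ∧ e - 1 ∈ m.asIdeal ∧
      ∀ m' : MaximalSpectrum R, m' ≠ m → e ∈ m'.asIdeal := by
  classical
  have hI : Pairwise (IsCoprime on fun m : MaximalSpectrum R => m.asIdeal) := fun a b hab =>
    Ideal.isCoprime_of_isMaximal (fun h => hab (MaximalSpectrum.ext h))
  obtain ⟨r, hr⟩ := Ideal.exists_forall_sub_mem_ideal hI (fun m' => if m' = m then (1 : R) else 0)
  set J := Ideal.jacobson (⊥ : Ideal R)
  have hJmem : ∀ x : R, x ∈ J ↔ ∀ m' : MaximalSpectrum R, x ∈ m'.asIdeal := fun x => by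
    constructor
    · intro hx m'
      exact Submodule.mem_sInf.mp hx m'.asIdeal ⟨bot_le, m'.isMaximal⟩
    · intro hx
      refine Submodule.mem_sInf.mpr ?_
      rintro I ⟨-, hI⟩
      exact hx ⟨I, hI⟩
  have hnil : ∀ x ∈ RingHom.ker (Ideal.Quotient.mk J), IsNilpotent x := by
    intro x hx
    rw [Ideal.mk_ker] at hx
    obtain ⟨n, hn⟩ := IsArtinianRing.isNilpotent_jacobson_bot (R := R)
    refine ⟨n, ?_⟩
    have h := Ideal.pow_mem_pow hx n
    rwa [hn, Submodule.zero_eq_bot, Submodule.mem_bot] at h
  have hid : IsIdempotentElem (Ideal.Quotient.mk J r) := by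
    rw [IsIdempotentElem, ← map_mul, Ideal.Quotient.mk_eq_mk_iff_sub_mem, hJmem]
    intro m'
    have := hr m'
    split_ifs at this with h
    · rw [show r * r - r = r * (r - 1) by ring]
      exact Ideal.mul_mem_left _ _ this
    · rw [sub_zero] at this
      exact sub_mem (Ideal.mul_mem_left _ _ this) this
  obtain ⟨e, he, heq⟩ := exists_isIdempotentElem_eq_of_ker_isNilpotent _ hnil _ ⟨r, rfl⟩ hid
  rw [Ideal.Quotient.mk_eq_mk_iff_sub_mem, hJmem] at heq
  refine ⟨e, he, ?_, fun m' hm' => ?_⟩
  · have := hr m
    rw [if_pos rfl] at this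
    simpa using add_mem (heq m) this
  · have := hr m'
    rw [if_neg hm'] at this
    simpa using add_mem (heq m') this

lemma projective_idempotent {e : R} (he : IsIdempotentElem e) :
    Module.Projective R (Submodule.span R {e}) := by
  refine Module.Projective.of_split (M := R) (Submodule.span R {e}).subtype
    ((LinearMap.mulRight R e).codRestrict _ fun x => ?_) (LinearMap.ext fun x => Subtype.ext ?_)
  · exact Submodule.mem_span_singleton.mpr ⟨x, rfl⟩
  · obtain ⟨x, hx⟩ := x
    obtain ⟨c, rfl⟩ := Submodule.mem_span_singleton.mp hx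
    simp [mul_assoc, he.eq]

lemma projective_dfinsupp {ι : Type u} {M : ι → Type u} [∀ i, AddCommGroup (M i)]
    [∀ i, Module R (M i)] [∀ i, Module.Projective R (M i)] : Module.Projective R (Π₀ i, M i) := by
  classical
  choose s hs using fun i => Module.Projective.out (R := R) (P := M i)
  let j : (i : ι) → M i →ₗ[R] ((Π₀ i, M i) →₀ R) := fun i =>
    Finsupp.lmapDomain R R (DFinsupp.single i) ∘ₗ s i
  refine ⟨⟨DFinsupp.lsum ℕ j, fun x => ?_⟩⟩
  have key : Finsupp.linearCombination R id ∘ₗ DFinsupp.lsum ℕ j = LinearMap.id := by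
    refine DFinsupp.lhom_ext fun i m => ?_
    simp only [LinearMap.comp_apply, DFinsupp.lsum_single, LinearMap.id_apply, j,
      Finsupp.lmapDomain_apply, Finsupp.linearCombination_mapDomain]
    have h2 : Finsupp.linearCombination R (id ∘ DFinsupp.single i) =
        DFinsupp.lsingle i ∘ₗ Finsupp.linearCombination R (id : M i → M i) := by
      ext v; simp
    rw [h2, LinearMap.comp_apply, hs i m]
    rfl
  exact LinearMap.congr_fun key x

/-- Over an Artinian ring every module has a projective cover. -/
theorem exists_cover [IsArtinianRing R] (N : Type u) [AddCommGroup N] [Module R N] :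
    ∃ (P : Type u) (_ : AddCommGroup P) (_ : Module R P) (p : P →ₗ[R] N),
      Module.Projective R P ∧ Surjective p ∧
        LinearMap.ker p ≤ Ideal.jacobson (⊥ : Ideal R) • ⊤ := by
  classical
  choose e hid he1 he0 using exists_idempotent (R := R)
  have := Fintype.ofFinite (MaximalSpectrum R)
  have hJ : ∀ x : R, (∀ m' : MaximalSpectrum R, x ∈ m'.asIdeal) → x ∈ Ideal.jacobson (⊥ : Ideal R) := by
    intro x hx
    refine Submodule.mem_sInf.mpr ?_
    rintro I ⟨-, hI⟩
    exact hx ⟨I, hI⟩
  have hbasis : ∀ m : MaximalSpectrum R, ∃ (ι : Type u) (v : ι → N),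
      (∀ y : N, ∃ c : ι →₀ R, y - Finsupp.linearCombination R v c ∈ m.asIdeal • (⊤ : Submodule R N)) ∧
      (∀ c : ι →₀ R, Finsupp.linearCombination R v c ∈ m.asIdeal • (⊤ : Submodule R N) →
        ∀ i, c i ∈ m.asIdeal) := by
    intro m
    have := m.isMaximal
    let := Ideal.Quotient.field m.asIdeal
    let V := N ⧸ (m.asIdeal • ⊤ : Submodule R N)
    let b := Module.Free.chooseBasis (R ⧸ m.asIdeal) V
    choose v hv using fun i => Submodule.mkQ_surjective (m.asIdeal • ⊤ : Submodule R N) (b i)
    refine ⟨_, v, fun y => ?_, fun c hc i => ?_⟩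
    · let z := b.repr (Submodule.Quotient.mk y)
      choose c hc using fun i => Ideal.Quotient.mk_surjective (z i)
      refine ⟨Finsupp.onFinset z.support (fun i => if i ∈ z.support then c i else 0)
        (fun i hi => by by_contra h; simp [h] at hi), ?_⟩
      rw [← Submodule.Quotient.eq, Finsupp.linearCombination_apply,
        Finsupp.onFinset_sum _ (fun i => zero_smul R (v i)), ← Submodule.mkQ_apply, ← Submodule.mkQ_apply,
        map_sum]
      conv_lhs => rw [Submodule.mkQ_apply, ← b.linearCombination_repr (Submodule.Quotient.mk y)]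
      rw [Finsupp.linearCombination_apply, Finsupp.sum]
      refine Finset.sum_congr rfl fun i hi => ?_
      rw [if_pos hi, map_smul, hv i, ← hc i]
      rfl
    · have h0 : Finsupp.linearCombination (R ⧸ m.asIdeal) b
          (c.mapRange (Ideal.Quotient.mk m.asIdeal) (map_zero _)) = 0 := by
        rw [Finsupp.linearCombination_apply, Finsupp.sum_mapRange_index (h := fun i (a : R ⧸ m.asIdeal) => a • b i) (fun i => zero_smul _ _)]
        rw [← Submodule.Quotient.mk_eq_zero, Finsupp.linearCombination_apply, ← Submodule.mkQ_apply,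
          map_finsuppSum] at hc
        refine Eq.trans (Finsupp.sum_congr fun i _ => ?_) hc
        rw [map_smul, hv i]
        rfl
      have h1 := DFunLike.congr_fun (linearIndependent_iff.mp b.linearIndependent _ h0) i
      exact Ideal.Quotient.eq_zero_iff_mem.mp (by simpa using h1)
  choose ι v hspan hind using hbasis
  let P := Π₀ s : Σ m : MaximalSpectrum R, ι m, ↥(Submodule.span R {e s.1})
  let p : P →ₗ[R] N := DFinsupp.lsum ℕ fun s =>
    ((LinearMap.id : R →ₗ[R] R).smulRight (v s.1 s.2)) ∘ₗ (Submodule.span R {e s.1}).subtype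
  have hP : Module.Projective R P :=
    have := fun s : Σ m : MaximalSpectrum R, ι m => projective_idempotent (hid s.1)
    projective_dfinsupp
  refine ⟨P, inferInstance, inferInstance, p, hP, ?_, ?_⟩
  · rw [← LinearMap.range_eq_top]
    obtain ⟨n, hn⟩ := IsArtinianRing.isNilpotent_jacobson_bot (R := R)
    have h1 : (⊤ : Submodule R N) ≤ LinearMap.range p ⊔ Ideal.jacobson (⊥ : Ideal R) • ⊤ := by
      intro y _
      have hsum : 1 - ∑ m, e m ∈ Ideal.jacobson (⊥ : Ideal R) := hJ _ fun m' => by
        rw [← Finset.add_sum_erase _ _ (Finset.mem_univ m'), ← sub_sub]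
        refine sub_mem (by simpa using neg_mem (he1 m')) (Ideal.sum_mem _ fun m hm => ?_)
        exact he0 m m' (Ne.symm (Finset.ne_of_mem_erase hm))
      have hy : y = ∑ m, e m • y + (1 - ∑ m, e m) • y := by
        rw [sub_smul, one_smul, Finset.sum_smul]; abel
      rw [hy]
      refine add_mem ?_ (Submodule.mem_sup_right (Submodule.smul_mem_smul hsum trivial))
      refine Submodule.sum_mem _ fun m _ => ?_
      obtain ⟨c, hc⟩ := hspan m y
      have hem : e m • y = e m • Finsupp.linearCombination R (v m) c +
          e m • (y - Finsupp.linearCombination R (v m) c) := by rw [smul_sub]; abel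
      rw [hem]
      refine add_mem (Submodule.mem_sup_left ?_) (Submodule.mem_sup_right ?_)
      · rw [Finsupp.linearCombination_apply, Finsupp.smul_sum]
        refine Submodule.sum_mem _ fun i _ =>
          ⟨DFinsupp.single ⟨m, i⟩ ⟨c i * e m, Submodule.mem_span_singleton.mpr ⟨c i, rfl⟩⟩, ?_⟩
        refine (DFinsupp.lsum_single ℕ _ _ _).trans ?_
        show (c i * e m) • v m i = _
        rw [mul_comm, mul_smul]
      · refine Submodule.smul_induction_on hc (fun r hr z _ => ?_) (fun a b ha hb => ?_)
        · rw [← mul_smul]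
          refine Submodule.smul_mem_smul (hJ _ fun m' => ?_) trivial
          by_cases h : m' = m
          · subst h; exact Ideal.mul_mem_left _ _ hr
          · exact Ideal.mul_mem_right _ _ (he0 m m' h)
        · rw [smul_add]; exact add_mem ha hb
    have h2 : ∀ k : ℕ, (⊤ : Submodule R N) ≤ LinearMap.range p ⊔ Ideal.jacobson (⊥ : Ideal R) ^ k • ⊤ := by
      intro k
      induction k with
      | zero => simp
      | succ k ih =>
        refine ih.trans (sup_le le_sup_left ?_)
        refine (Submodule.smul_mono le_rfl h1).trans ?_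
        rw [Submodule.smul_sup, pow_succ, Submodule.mul_smul]
        exact sup_le_sup_right Submodule.smul_le_right _
    have := h2 n
    rw [hn, Submodule.zero_eq_bot, Submodule.bot_smul, sup_bot_eq] at this
    exact eq_top_iff.mpr this
  · intro z hz
    have key : ∀ s : Σ m : MaximalSpectrum R, ι m, (z s : R) ∈ s.1.asIdeal := by
      rintro ⟨m, i⟩
      have h0 : ∑ s ∈ z.support, (z s : R) • v s.1 s.2 = 0 := by
        have h := LinearMap.mem_ker.mp hz
        rw [← DFinsupp.sum_single (f := z), DFinsupp.sum, map_sum] at h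
        refine Eq.trans (Finset.sum_congr rfl fun s _ => ?_) h
        symm
        exact DFinsupp.lsum_single ..
      let c : ι m →₀ R := Finsupp.onFinset (z.support.preimage (Sigma.mk m) sigma_mk_injective.injOn)
        (fun i => (z ⟨m, i⟩ : R)) (fun i hi => by
          simp only [Finset.mem_preimage, DFinsupp.mem_support_iff]
          exact fun h => hi (by simp [h]))
      refine hind m c ?_ i
      rw [Finsupp.linearCombination_apply, Finsupp.onFinset_sum _ (fun i => zero_smul R (v m i)),
        Finset.sum_preimage' (Sigma.mk m) z.support sigma_mk_injective.injOn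
          (fun s => (z s : R) • v s.1 s.2)]
      have hsplit := Finset.sum_filter_add_sum_filter_not z.support (· ∈ Set.range (Sigma.mk m))
        (fun s => (z s : R) • v s.1 s.2)
      rw [h0, add_eq_zero_iff_eq_neg] at hsplit
      rw [hsplit]
      refine neg_mem (Submodule.sum_mem _ fun s hs => ?_)
      rw [Finset.mem_filter] at hs
      obtain ⟨m', i'⟩ := s
      have hne : m ≠ m' := fun h => hs.2 (by subst h; exact ⟨i', rfl⟩)
      obtain ⟨d, hd⟩ := Submodule.mem_span_singleton.mp (z ⟨m', i'⟩).2
      refine Submodule.smul_mem_smul ?_ trivial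
      rw [← hd]
      exact Ideal.mul_mem_left _ _ (he0 m' m hne)
    rw [← DFinsupp.sum_single (f := z)]
    refine Submodule.sum_mem _ fun s _ => ?_
    have hzs : z s = (z s : R) • (⟨e s.1, Submodule.mem_span_singleton_self _⟩ : Submodule.span R {e s.1}) := by
      apply Subtype.ext
      obtain ⟨d, hd⟩ := Submodule.mem_span_singleton.mp (z s).2
      show (z s : R) = (z s : R) * e s.1
      rw [← hd, smul_eq_mul, mul_assoc, (hid s.1).eq]
    rw [hzs, DFinsupp.single_smul]
    refine Submodule.smul_mem_smul (hJ _ fun m' => ?_) trivial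
    by_cases h : m' = s.1
    · rw [h]; exact key s
    · obtain ⟨d, hd⟩ := Submodule.mem_span_singleton.mp (z s).2
      rw [← hd]
      exact Ideal.mul_mem_left _ _ (he0 s.1 m' h)

lemma mem_smul_top_of_tmul_eq_zero {X : Type u} [AddCommGroup X] [Module R X] (I : Ideal R) (x : X)
    (h : (Submodule.Quotient.mk 1 : R ⧸ I) ⊗ₜ[R] x = 0) : x ∈ I • (⊤ : Submodule R X) := by
  have h1 := congrArg (TensorProduct.quotTensorEquivQuotSMul X I) h
  rw [map_zero] at h1
  refine (Submodule.Quotient.mk_eq_zero (I • ⊤ : Submodule R X)).mp ?_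
  rw [← one_smul R x]
  exact (TensorProduct.quotTensorEquivQuotSMul_mk_tmul I 1 x).symm.trans h1

lemma mem_smul_top_of_flat_coker {A B C : Type u} [AddCommGroup A] [Module R A] [AddCommGroup B]
    [Module R B] [AddCommGroup C] [Module R C] [Module.Flat R C] (I : Ideal R)
    (f : A →ₗ[R] B) (g : B →ₗ[R] C) (hfg : Exact f g) (hg : Surjective g) (hf : Injective f)
    (x : A) (hx : f x ∈ I • (⊤ : Submodule R B)) : x ∈ I • (⊤ : Submodule R A) := by
  have hinj := lTensor_injective_of_flat_coker f g hfg hg hf (R ⧸ I)
  have h0 : f.lTensor (R ⧸ I) (Submodule.Quotient.mk 1 ⊗ₜ[R] x) = 0 := by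
    rw [LinearMap.lTensor_tmul]
    apply (TensorProduct.quotTensorEquivQuotSMul B I).injective
    rw [map_zero]
    refine (TensorProduct.quotTensorEquivQuotSMul_mk_tmul I 1 (f x)).trans ?_
    rw [one_smul, Submodule.Quotient.mk_eq_zero]
    exact hx
  exact mem_smul_top_of_tmul_eq_zero I x (hinj (h0.trans (map_zero _).symm))

lemma ker_le_smul {B C : Type u} [AddCommGroup B] [Module R B] [AddCommGroup C] [Module R C]
    [Module.Flat R C] (I : Ideal R) (g : B →ₗ[R] C) (hg : Surjective g)
    (hker : LinearMap.ker g ≤ I • ⊤) : LinearMap.ker g ≤ I • LinearMap.ker g := by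
  intro x hx
  let K := LinearMap.ker g
  have h2 : (⟨x, hx⟩ : K) ∈ I • (⊤ : Submodule R K) :=
    mem_smul_top_of_flat_coker (A := K) I K.subtype g
      (LinearMap.exact_subtype_ker_map _) hg (Submodule.injective_subtype K) _ (hker hx)
  have h3 := Submodule.mem_map_of_mem (f := K.subtype) h2
  rwa [Submodule.map_smul'', Submodule.map_top, Submodule.range_subtype] at h3

/-- A projective cover becomes bijective over any algebra over which its target becomes flat. -/
theorem baseChange_bijective_of_flat {S : Type u} [CommRing S] [Algebra R S] {P N : Type u}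
    [AddCommGroup P] [Module R P] [AddCommGroup N] [Module R N] (p : P →ₗ[R] N) (hp : Surjective p)
    (I : Ideal R) (hI : IsNilpotent I) (hker : LinearMap.ker p ≤ I • ⊤)
    [Module.Flat S (S ⊗[R] N)] : Bijective (p.baseChange S) := by
  have hsurj : Surjective (p.baseChange S) := LinearMap.lTensor_surjective S hp
  refine ⟨?_, hsurj⟩
  have hex : Exact ((LinearMap.ker p).subtype.baseChange S) (p.baseChange S) :=
    lTensor_exact S (LinearMap.exact_subtype_ker_map p) hp
  set IS := I.map (algebraMap R S)
  set K := LinearMap.ker (p.baseChange S)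
  have hKI : K ≤ IS • ⊤ := by
    intro x hx
    obtain ⟨y, rfl⟩ := (hex x).mp hx
    clear hx
    induction y with
    | zero => simp
    | add a b ha hb => rw [map_add]; exact add_mem ha hb
    | tmul s k =>
      rw [LinearMap.baseChange_tmul, Submodule.subtype_apply]
      refine Submodule.smul_induction_on (p := fun z => s ⊗ₜ[R] z ∈ IS • (⊤ : Submodule S (S ⊗[R] P)))
        (hker k.2) (fun r hr z _ => ?_) (fun a b ha hb => by rw [tmul_add]; exact add_mem ha hb)
      rw [tmul_smul, ← algebraMap_smul S r]
      exact Submodule.smul_mem_smul (Ideal.mem_map_of_mem _ hr) trivial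
  have hKK : K ≤ IS • K := ker_le_smul IS (p.baseChange S) hsurj hKI
  obtain ⟨n, hn⟩ := hI
  have hpow : ∀ k : ℕ, K ≤ IS ^ k • K := by
    intro k
    induction k with
    | zero => simp
    | succ k ih =>
      rw [pow_succ, Submodule.mul_smul]
      exact ih.trans (Submodule.smul_mono le_rfl hKK)
  have := hpow n
  rw [← Ideal.map_pow, hn, Submodule.zero_eq_bot, Ideal.map_bot, Submodule.bot_smul] at this
  exact LinearMap.ker_eq_bot.mp (le_bot_iff.mp this)

end Groth.Agent.LocFlat.Artinian
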